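import Groth.Prelude.Def_ArtFun6
import Groth.Prelude.Def_ArtFun3
import Groth.Agent.Exal29.LiftRegular
import Groth.Agent.H8Coh.RatTangent
import Mathlib.FieldTheory.IsAlgClosed.Basic

/-!
# Regularity at a rational point from lifting of Artinian points
-/

set_option autoImplicit false
set_option backward.isDefEq.respectTransparency.types false
set_option backward.isDefEq.respectTransparency false
set_option linter.style.haveILetI false
universe u

open CategoryTheory CategoryTheory.Limits AlgebraicGeometry IsLocalRing ArtFun ArtFun.Art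
open Groth.Agent.H8Coh.RatTangent

noncomputable section

namespace Groth.Agent.QuotSm29

variable {k : Type u} [Field k] [IsAlgClosed k]

/-- A finite local algebra over an algebraically closed field, as an Artinian algebra with residue field `k`. -/
theorem exists_art (B : Type u) [CommRing B] [IsLocalRing B] [Algebra k B] [Module.Finite k B] :
    ∃ (_ : IsArtinianRing B) (r : B →ₐ[k] k), Function.Surjective r := by
  haveI : IsArtinianRing B := IsArtinianRing.of_finite k B
  haveI : Module.Finite k (ResidueField B) :=
    Module.Finite.of_surjective (IsScalarTower.toAlgHom k B (ResidueField B)).toLinearMap residue_surjective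
  haveI : Algebra.IsIntegral k (ResidueField B) := Algebra.IsIntegral.of_finite k _
  let e : k ≃ₐ[k] ResidueField B :=
    AlgEquiv.ofBijective (Algebra.ofId k (ResidueField B)) IsAlgClosed.algebraMap_bijective_of_isIntegral
  refine ⟨inferInstance, e.symm.toAlgHom.comp (IsScalarTower.toAlgHom k B (ResidueField B)), ?_⟩
  exact e.symm.surjective.comp residue_surjective

variable {P : Scheme.{u}} [IsLocallyNoetherian P] (p : P ⟶ specPt k) (s : specPt k ⟶ P) (hs : s ≫ p = 𝟙 _)

include hs in
/-- If Artinian points centred at a rational point lift along surjections, the local ring is regular. -/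
theorem isRegularLocalRing_of_lifts
    (h : ∀ ⦃B A : Art k k⦄ (q : B ⟶ A), Function.Surjective q → ∀ u : Art.spec A ⟶ P,
      u ≫ p = specOver A → specRes A ≫ u = s → ∃ v : Art.spec B ⟶ P, v ≫ p = specOver B ∧ specMap q ≫ v = u) :
    IsRegularLocalRing (P.presheaf.stalk (pt s)) := by
  let O : Type u := P.presheaf.stalk (pt s)
  letI : Algebra k O := (ρ p s).toAlgebra
  have hres : Function.Surjective (algebraMap k (ResidueField O)) := fun y => by
    obtain ⟨a, rfl⟩ := residue_surjective y
    refine ⟨χ s a, ?_⟩
    show residue O (ρ p s (χ s a)) = residue O a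
    rw [eq_comm, ← sub_eq_zero, ← map_sub, residue_eq_zero_iff]
    exact sub_mem p s hs a
  refine Exal29.isRegularLocalRing_of_artinian_lifts (k := k) hres fun B' _ _ _ _ J hJ f => ?_
  obtain ⟨hart, r, hr⟩ := exists_art (k := k) B'
  let B : Art k k := Art.of B' r hr
  have hJm : J ≤ maximalIdeal B' := by
    refine IsLocalRing.le_maximalIdeal fun e => ?_
    rw [e, sq, Ideal.top_mul] at hJ
    exact top_ne_bot hJ
  let A : Art k k := Art.quot B J hJm
  let q : B ⟶ A := Art.quotMk B J hJm
  let f' : O →ₐ[k] A := f
  let u : Art.spec A ⟶ P := Spec.map (CommRingCat.ofHom f'.toRingHom) ≫ P.fromSpecStalk (pt s)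
  have hu : u ≫ p = specOver A := by
    rw [Category.assoc, ← specMap_ρ p s, ← Spec.map_comp, ← CommRingCat.ofHom_comp]
    congr 2
    exact RingHom.ext fun c => f'.commutes c
  have hfm : ∀ a ∈ maximalIdeal O, A.res (f' a) = 0 := by
    let φ : O →ₐ[k] k := A.res.comp f'
    have hφ : Function.Surjective φ := fun c => ⟨algebraMap k O c, φ.commutes c⟩
    have : RingHom.ker φ.toRingHom = maximalIdeal O :=
      IsLocalRing.eq_maximalIdeal (RingHom.ker_isMaximal_of_surjective φ.toRingHom hφ)
    exact fun a ha => (this.ge ha : _)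
  have hc : specRes A ≫ u = s := by
    rw [← Category.assoc]
    refine Eq.trans ?_ (specMap_χ s)
    show (Spec.map _ ≫ Spec.map _) ≫ _ = _
    rw [← Spec.map_comp, ← CommRingCat.ofHom_comp]
    congr 3
    refine RingHom.ext fun a => ?_
    show A.res (f' a) = χ s a
    have h1 := hfm _ (sub_mem p s hs a)
    rw [map_sub, map_sub, sub_eq_zero] at h1
    rw [h1]
    exact (congrArg A.res (f'.commutes (χ s a))).trans (A.res.commutes (χ s a))
  obtain ⟨v, hv, hv'⟩ := h q (Art.quotMk_surjective _ _ _) u hu hc
  have hpt : v (closedPoint B') = pt s := by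
    have h1 : specRes B ≫ v = s := by
      rw [← specRes_comp q, Category.assoc, hv', hc]
    rw [pt, ← h1, Scheme.Hom.comp_apply]
    congr 1
    exact Subsingleton.elim (α := PrimeSpectrum B') _ _
  haveI : IsLocalRing (CommRingCat.of B') := ‹IsLocalRing B'›
  obtain ⟨θ, hθ⟩ := exists_lift v _ hpt
  have hθk : ∀ c, θ.hom (ρ p s c) = algebraMap k B' c := by
    have h2 : Spec.map (CommRingCat.ofHom (θ.hom.comp (ρ p s))) = specOver B := by
      rw [CommRingCat.ofHom_comp, Spec.map_comp, specMap_ρ, ← Category.assoc, CommRingCat.ofHom_hom, hθ, hv]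
    exact fun c => RingHom.congr_fun (congrArg CommRingCat.Hom.hom (Spec.map_injective h2)) c
  refine ⟨{ θ.hom with commutes' := hθk }, AlgHom.ext fun a => ?_⟩
  have h3 : (Ideal.Quotient.mk J).comp θ.hom = f'.toRingHom := by
    refine eq_of_specMap (P := P) (x := pt s) ?_
    rw [CommRingCat.ofHom_comp, Spec.map_comp, Category.assoc, CommRingCat.ofHom_hom, hθ]
    exact hv'
  exact RingHom.congr_fun h3 a

end Groth.Agent.QuotSm29
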