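import Groth.Agent.ArtFunLib.QuotLift.Family
import Groth.Agent.QuotSm29.Lifts

/-!
# Lifting of Artinian points of a Quot scheme
-/

set_option autoImplicit false
set_option backward.isDefEq.respectTransparency.types false
set_option backward.isDefEq.respectTransparency false
set_option linter.style.haveILetI false
universe u

open CategoryTheory CategoryTheory.Limits AlgebraicGeometry IsLocalRing ArtFun
open Groth.Agent.ArtFunLib.QuotLift

noncomputable section

namespace Groth.Agent.QuotSm29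

variable {k : Type u} [Field k] {X : Scheme.{u}} (x : X ⟶ Spec (CommRingCat.of k)) (E : X.Modules)
  [LocallyOfFiniteType x]

/-- Pullback of a family of coherent quotients. -/
theorem exists_pull {T T' : Over (Spec (CommRingCat.of k))} [IsLocallyNoetherian T.left] [IsLocallyNoetherian T'.left]
    (g : T' ⟶ T) (K : FGA.QuotSet x E T) :
    ∃ K' : FGA.QuotSet x E T', K'.1 = FGA.quotPull x E g K.1 := by
  haveI := Quot8.isLocallyNoetherian_XT x (T := T)
  haveI := Quot8.isLocallyNoetherian_XT x (T := T')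
  haveI := Quot8.epi_bcQ x E g (cokernel.π K.1.arrow)
  refine ⟨Quot8.mkQuot x E (Quot8.bcQ x E g (cokernel.π K.1.arrow)) (ZClosLib.isCoh_pullback _ _ K.2.1)
    (fun z => Desc19b.isFlatOverAt_baseChange _ _ _ _ (FlatMor12.FlatFun.isPullback_XTmap x g) _ z (K.2.2 _)), ?_⟩
  conv_rhs => rw [← Quot8.kernelSubobject_cokernel K.1, Quot8.quotPull_kernelSubobject]
  rfl

/-- The splitting condition moved to the closed fibre object. -/
theorem splits_aux (K₀ : FGA.QuotSet x E (Over.mk (𝟙 (Spec (CommRingCat.of k)))))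
    [HasExt.{u} (PicF.XT x (Over.mk (𝟙 (Spec (CommRingCat.of k))))).Modules]
    (hExt : Subsingleton (Abelian.Ext.{u} (Subobject.underlying.obj K₀.1) (cokernel K₀.1.arrow) 1))
    (t : Spec (CommRingCat.of k) ⟶ Spec (CommRingCat.of k)) (ht : t = 𝟙 _)
    (j : Over.mk t ⟶ Over.mk (𝟙 (Spec (CommRingCat.of k)))) :
    Splits (cokernel (FGA.quotPull x E j K₀.1).arrow) (FGA.quotPull x E j K₀.1 : (PicF.XT x (Over.mk t)).Modules) := by
  subst ht
  obtain rfl : j = 𝟙 _ := Over.OverMorphism.ext (by simpa using Over.w j)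
  rw [Quot8.quotPull_id]
  exact splits_of_subsingleton_ext hExt

variable {E}

/-- Artinian points of a Quot scheme centred at a point without first extensions lift. -/
theorem exists_lift (hE : Coh.IsCoh E) {Q : Over (Spec (CommRingCat.of k))} {Ku : FGA.QuotSet x E Q}
    (hQ : FGA.QuotRepresentedBy x E Q Ku) (K₀ : FGA.QuotSet x E (Over.mk (𝟙 (Spec (CommRingCat.of k)))))
    (g : Over.mk (𝟙 (Spec (CommRingCat.of k))) ⟶ Q) (hg : FGA.quotPull x E g Ku.1 = K₀.1)
    [HasExt.{u} (PicF.XT x (Over.mk (𝟙 (Spec (CommRingCat.of k))))).Modules]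
    (hExt : Subsingleton (Abelian.Ext.{u} (Subobject.underlying.obj K₀.1) (cokernel K₀.1.arrow) 1))
    {B A : Art k k} (q : B ⟶ A) (hq : Function.Surjective q) (u : Art.spec A ⟶ Q.left)
    (hu : u ≫ Q.hom = Art.specOver A) (hc : Art.specRes A ≫ u = g.left) :
    ∃ v : Art.spec B ⟶ Q.left, v ≫ Q.hom = Art.specOver B ∧ Art.specMap q ≫ v = u := by
  haveI := hQ.1
  let uO : TA A ⟶ Q := Over.homMk u hu
  obtain ⟨K, hK⟩ := exists_pull x E uO Ku
  have h1 : Art.specOver (Art.base k k) = 𝟙 (Spec (CommRingCat.of k)) := by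
    show Art.specMap (Art.ofBase (Art.base k k)) = _
    rw [ArtFunLib.base_subsingleton (Art.ofBase (Art.base k k)) (𝟙 _), Art.specMap_id]
    rfl
  let j : TA (Art.base k k) ⟶ Over.mk (𝟙 (Spec (CommRingCat.of k))) :=
    Over.homMk (Art.specOver (Art.base k k)) (Category.comp_id _)
  have h2 : gA (Art.toBase A) ≫ uO = j ≫ g := by
    refine Over.OverMorphism.ext ?_
    show Art.specMap (Art.toBase A) ≫ u = Art.specOver (Art.base k k) ≫ g.left
    rw [h1, ← hc]
    exact (Category.id_comp _).symm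
  have hs : Splits (cokernel (fibreK x E K.1).arrow) (fibreK x E K.1) := by
    unfold fibreK
    rw [hK, ← Quot8.quotPull_comp, h2, Quot8.quotPull_comp, hg]
    exact splits_aux x E K₀ hExt _ h1 j
  obtain ⟨K', hK'⟩ := exists_extension_surjective x E hE q hq K hs
  obtain ⟨v, hv, -⟩ := hQ.2 (TA B) K'
  refine ⟨v.left, Over.w v, ?_⟩
  have h3 := (hQ.2 (TA A) K).unique (y₁ := gA q ≫ v) (y₂ := uO) ((Quot8.quotPull_comp _ _ _ _ _).trans (by rw [hv, hK'])) hK.symm
  exact congrArg (fun φ => φ.left) h3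

end Groth.Agent.QuotSm29
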